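import Mathlib

/-!
An even permutation is a product of two conjugate even permutations each of which has at least
two cycles of length two.
-/

set_option autoImplicit false
set_option linter.unusedSimpArgs false
set_option linter.style.haveILetI false

namespace Cfsg.Agent.H25.DoubleCover

open Equiv Equiv.Perm

variable {α : Type*} [Fintype α] [DecidableEq α]

/-- A factorisation of a permutation into two involutions inside its support. -/
structure Refl (g x y : Perm α) : Prop where
  xx : x * x = 1
  yy : y * y = 1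
  eq : g = x * y
  hx : x.support ⊆ g.support
  hy : y.support ⊆ g.support
  differ : g ≠ 1 → x.support ≠ y.support

theorem mem_support_conj {x y : Perm α} (hx : x * x = 1) (p : α) :
    p ∈ (x * y * x).support ↔ x p ∈ y.support := by
  have hxx : ∀ q, x (x q) = q := fun q => by rw [← Perm.mul_apply, hx, one_apply]
  simp only [mem_support, Perm.mul_apply, ne_eq]
  refine not_congr ⟨fun h => ?_, fun h => by rw [h, hxx]⟩
  have := congrArg x h
  rwa [hxx] at this

theorem card_support_conj {x y : Perm α} (hx : x * x = 1) :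
    (x * y * x).support.card = y.support.card := by
  have hxx : ∀ q, x (x q) = q := fun q => by rw [← Perm.mul_apply, hx, one_apply]
  refine Finset.card_bij' (fun p _ => x p) (fun p _ => x p) (fun p hp => ?_) (fun p hp => ?_)
    (fun p _ => hxx p) (fun p _ => hxx p)
  · exact (mem_support_conj hx p).1 hp
  · exact (mem_support_conj hx (x p)).2 (by rwa [hxx])

theorem Refl.swapped {g x y : Perm α} (h : Refl g x y) : Refl g (x * y * x) x where
  xx := by
    rw [show x * y * x * (x * y * x) = x * (y * (x * x) * y) * x by group, h.xx, mul_one, h.yy,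
      mul_one, h.xx]
  yy := h.xx
  eq := by rw [show x * y * x * x = x * y * (x * x) by group, h.xx, mul_one, ← h.eq]
  hx := by
    intro p hp
    have hp' := (mem_support_conj h.xx p).1 hp
    by_cases hq : x p = p
    · exact h.hy (hq ▸ hp')
    · exact h.hx (mem_support.2 hq)
  hy := h.hx
  differ := fun hg e => h.differ hg (by
    ext p
    have hxx : ∀ q, x (x q) = q := fun q => by rw [← Perm.mul_apply, h.xx, one_apply]
    have h1 := mem_support_conj (y := y) h.xx (x p)
    rw [hxx, e] at h1
    have h2 : x p ∈ x.support ↔ p ∈ x.support := apply_mem_support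
    rw [← h1, h2])

theorem support_mul_of_disjoint {σ τ : Perm α} (h : Disjoint σ τ) :
    (σ * τ).support = σ.support ∪ τ.support := h.support_mul

theorem Refl.mul {σ τ x₁ y₁ x₂ y₂ : Perm α} (h : Disjoint σ τ) (h₁ : Refl σ x₁ y₁)
    (h₂ : Refl τ x₂ y₂) : Refl (σ * τ) (x₁ * x₂) (y₁ * y₂) ∧
      (x₁ * x₂).support.card = x₁.support.card + x₂.support.card ∧
      (y₁ * y₂).support.card = y₁.support.card + y₂.support.card := by
  have hd := disjoint_iff_disjoint_support.1 h
  have dxx : Disjoint x₁ x₂ := disjoint_iff_disjoint_support.2 (hd.mono h₁.hx h₂.hx)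
  have dyy : Disjoint y₁ y₂ := disjoint_iff_disjoint_support.2 (hd.mono h₁.hy h₂.hy)
  have dyx : Disjoint y₁ x₂ := disjoint_iff_disjoint_support.2 (hd.mono h₁.hy h₂.hx)
  refine ⟨⟨?_, ?_, ?_, ?_, ?_, ?_⟩, dxx.card_support_mul, dyy.card_support_mul⟩
  · rw [dxx.commute.symm.mul_mul_mul_comm, h₁.xx, h₂.xx, one_mul]
  · rw [dyy.commute.symm.mul_mul_mul_comm, h₁.yy, h₂.yy, one_mul]
  · calc σ * τ = x₁ * y₁ * (x₂ * y₂) := by rw [h₁.eq, h₂.eq]
      _ = x₁ * (y₁ * x₂) * y₂ := by group
      _ = x₁ * (x₂ * y₁) * y₂ := by rw [dyx.commute.eq]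
      _ = _ := by group
  · rw [dxx.support_mul, h.support_mul]; exact Finset.union_subset_union h₁.hx h₂.hx
  · rw [dyy.support_mul, h.support_mul]; exact Finset.union_subset_union h₁.hy h₂.hy
  · intro hg e
    rw [dxx.support_mul, dyy.support_mul] at e
    have key : ∀ {A B C D S T : Finset α}, _root_.Disjoint S T → A ⊆ S → B ⊆ T → C ⊆ S → D ⊆ T →
        A ∪ B = C ∪ D → A = C := by
      intro A B C D S T hST hA hB hC hD e
      have hi := Finset.disjoint_left.1 hST
      ext p
      refine ⟨fun hp => ?_, fun hp => ?_⟩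
      · rcases Finset.mem_union.1 (e ▸ Finset.mem_union_left B hp) with h' | h'
        · exact h'
        · exact absurd (hD h') (hi (hA hp))
      · rcases Finset.mem_union.1 (e.symm ▸ Finset.mem_union_left D hp) with h' | h'
        · exact h'
        · exact absurd (hB h') (hi (hC hp))
    by_cases hσ : σ = 1
    · have hτ : τ ≠ 1 := fun ht => hg (by rw [hσ, ht, one_mul])
      rw [Finset.union_comm, Finset.union_comm y₁.support] at e
      exact h₂.differ hτ (key hd.symm h₂.hx h₁.hx h₂.hy h₁.hy e)
    · exact h₁.differ hσ (key hd h₁.hx h₂.hx h₁.hy h₂.hy e)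

/-- The support difference prescribed by the sign. -/
def Balanced (g x y : Perm α) : Prop :=
  (sign g = 1 → x.support.card = y.support.card) ∧
    (sign g = -1 → x.support.card = y.support.card + 2)

theorem exists_refl_cycle {σ : Perm α} (hσ : σ.IsCycle) :
    ∃ x y, Refl σ x y ∧ Balanced σ x y := by
  classical
  obtain ⟨b, hb, hex⟩ := id hσ
  set ℓ := σ.support.card with hℓdef
  have hord : orderOf σ = ℓ := hσ.orderOf
  have hℓ2 : 2 ≤ ℓ := hσ.two_le_card_support
  have hfix : ∀ k : ℤ, (σ ^ k) b = b ↔ (ℓ : ℤ) ∣ k := by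
    intro k
    rw [← hord, orderOf_dvd_iff_zpow_eq_one]
    refine ⟨fun h => ?_, fun h => by rw [h, one_apply]⟩
    have he : (σ ^ k) = σ ^ ((k % (ℓ : ℤ)).toNat) := by
      rw [← zpow_natCast, Int.toNat_of_nonneg (Int.emod_nonneg _ (by omega)), ← hord, zpow_mod_orderOf]
    rw [he] at h ⊢
    exact (hσ.pow_eq_one_iff' hb).2 h
  have heq : ∀ i j : ℤ, (σ ^ i) b = (σ ^ j) b ↔ (ℓ : ℤ) ∣ j - i := by
    intro i j
    rw [← hfix, show j - i = -i + j by ring, zpow_add, Perm.mul_apply, zpow_neg]
    constructor
    · intro h; rw [← h]; exact (σ ^ i).symm_apply_apply b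
    · intro h
      conv_lhs => rw [← h]
      exact (σ ^ i).apply_symm_apply _
  have hrep : ∀ q ∈ σ.support, ∃ i : ℤ, (σ ^ i) b = q := fun q hq => hex (mem_support.1 hq)
  have hmem : ∀ i : ℤ, (σ ^ i) b ∈ σ.support := fun i => zpow_apply_mem_support.2 (mem_support.2 hb)
  let f : α → α := fun q =>
    if hq : q ∈ σ.support then (σ ^ (-(Classical.choose (hrep q hq)))) b else q
  have hfi : ∀ i : ℤ, f ((σ ^ i) b) = (σ ^ (-i)) b := by
    intro i
    show (if hq : (σ ^ i) b ∈ σ.support then _ else _) = _
    rw [dif_pos (hmem i)]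
    have h := (heq _ _).1 (Classical.choose_spec (hrep _ (hmem i)))
    rw [heq]
    obtain ⟨c, hc⟩ := h
    exact ⟨-c, by rw [mul_neg, ← hc]; ring⟩
  have hfo : ∀ q, q ∉ σ.support → f q = q := fun q hq => dif_neg hq
  have hinv : Function.Involutive f := by
    intro q
    by_cases hq : q ∈ σ.support
    · obtain ⟨i, rfl⟩ := hrep q hq
      rw [hfi, hfi, neg_neg]
    · rw [hfo q hq, hfo q hq]
  let x : Perm α := hinv.toPerm f
  have hxa : ∀ i : ℤ, x ((σ ^ i) b) = (σ ^ (-i)) b := hfi
  have hxo : ∀ q, q ∉ σ.support → x q = q := hfo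
  have hxx : x * x = 1 := Equiv.ext fun q => hinv q
  let y : Perm α := x * σ
  have hya : ∀ i : ℤ, y ((σ ^ i) b) = (σ ^ (-(1 + i))) b := fun i => by
    show x (σ ((σ ^ i) b)) = _
    rw [show σ ((σ ^ i) b) = (σ ^ (1 + i)) b by rw [zpow_one_add]; rfl, hxa]
  have hyo : ∀ q, q ∉ σ.support → y q = q := fun q hq => by
    show x (σ q) = q
    rw [notMem_support.1 hq, hxo q hq]
  have hyy : y * y = 1 := by
    refine Equiv.ext fun q => ?_
    rw [Perm.mul_apply, one_apply]
    by_cases hq : q ∈ σ.support
    · obtain ⟨i, rfl⟩ := hrep q hq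
      rw [hya, hya]
      congr 2
      ring
    · rw [hyo q hq, hyo q hq]
  have hR : Refl σ x y := by
    refine ⟨hxx, hyy, by rw [← mul_assoc, hxx, one_mul], fun q hq => ?_, fun q hq => ?_,
      fun _ e => ?_⟩
    · by_contra hc; exact mem_support.1 hq (hxo q hc)
    · by_contra hc; exact mem_support.1 hq (hyo q hc)
    · have h1 : b ∉ x.support := by
        rw [notMem_support]; simpa using hxa 0
      apply h1
      rw [e, mem_support]
      intro h2
      have h3 := hya 0
      rw [zpow_zero, one_apply, h2] at h3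
      have h4 := (hfix (-(1 + 0))).1 h3.symm
      rw [add_zero, dvd_neg] at h4
      have := Int.le_of_dvd one_pos h4
      omega
  -- the fixed points inside the support
  have hnat : ∀ q ∈ σ.support, ∃ i < ℓ, (σ ^ (i : ℤ)) b = q := by
    intro q hq
    obtain ⟨i, hi⟩ := hrep q hq
    have h0 : (0 : ℤ) ≤ i % (ℓ : ℤ) := Int.emod_nonneg _ (by omega)
    have h1 : i % (ℓ : ℤ) < ℓ := Int.emod_lt_of_pos _ (by omega)
    refine ⟨(i % (ℓ : ℤ)).toNat, by omega, ?_⟩
    rw [Int.toNat_of_nonneg h0, ← hord, zpow_mod_orderOf, hi]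
  have count : ∀ (z : Perm α) (c : ℕ), z.support ⊆ σ.support →
      (∀ i : ℕ, i < ℓ → (z ((σ ^ (i : ℤ)) b) = (σ ^ (i : ℤ)) b ↔ ℓ ∣ 2 * i + c)) →
      z.support = σ.support \
        ((Finset.range ℓ).filter fun i => ℓ ∣ 2 * i + c).image (fun i : ℕ => (σ ^ (i : ℤ)) b) ∧
      z.support.card + ((Finset.range ℓ).filter fun i => ℓ ∣ 2 * i + c).card = ℓ := by
    intro z c hz hzi
    have h1 : z.support = σ.support \
        ((Finset.range ℓ).filter fun i => ℓ ∣ 2 * i + c).image (fun i : ℕ => (σ ^ (i : ℤ)) b) := by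
      ext q
      simp only [Finset.mem_sdiff, Finset.mem_image, Finset.mem_filter, Finset.mem_range]
      constructor
      · intro hq
        refine ⟨hz hq, ?_⟩
        rintro ⟨i, ⟨hi, hd⟩, rfl⟩
        exact mem_support.1 hq ((hzi i hi).2 hd)
      · rintro ⟨hq, hn⟩
        obtain ⟨i, hi, rfl⟩ := hnat q hq
        exact mem_support.2 fun he => hn ⟨i, ⟨hi, (hzi i hi).1 he⟩, rfl⟩
    refine ⟨h1, ?_⟩
    have hsub : ((Finset.range ℓ).filter fun i => ℓ ∣ 2 * i + c).image
        (fun i : ℕ => (σ ^ (i : ℤ)) b) ⊆ σ.support := by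
      intro q hq
      obtain ⟨i, -, rfl⟩ := Finset.mem_image.1 hq
      exact hmem _
    have hadd := Finset.card_sdiff_add_card_eq_card hsub
    rw [Finset.card_image_of_injOn, ← hℓdef] at hadd
    · rw [h1]; exact hadd
    intro i hi j hj e
    simp only [Finset.coe_filter, Finset.mem_range, Set.mem_ofPred_eq] at hi hj
    obtain ⟨d, hd⟩ := (heq _ _).1 e
    have : d = 0 := by
      rcases lt_trichotomy d 0 with hd' | hd' | hd'
      · nlinarith
      · exact hd'
      · nlinarith
    subst this
    omega
  obtain ⟨-, hcx⟩ := count x 0 hR.hx fun i _ => by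
    rw [hxa, heq, show (i : ℤ) - -(i : ℤ) = ((2 * i + 0 : ℕ) : ℤ) by push_cast; ring,
      Int.natCast_dvd_natCast]
  obtain ⟨-, hcy⟩ := count y 1 hR.hy fun i _ => by
    rw [hya, heq, show (i : ℤ) - -(1 + (i : ℤ)) = ((2 * i + 1 : ℕ) : ℤ) by push_cast; ring,
      Int.natCast_dvd_natCast]
  have small : ∀ {i c : ℕ}, i < ℓ → c ≤ 1 → ℓ ∣ 2 * i + c → 2 * i + c = 0 ∨ 2 * i + c = ℓ := by
    rintro i c hi hc ⟨d, hd⟩
    rcases d with _ | _ | d
    · left; simpa using hd
    · right; simpa using hd
    · exfalso; nlinarith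
  have hsig : sign σ = -(-1) ^ ℓ := hσ.sign
  rcases Nat.even_or_odd' ℓ with ⟨k, hk | hk⟩
  · -- even length
    have fx : ((Finset.range ℓ).filter fun i => ℓ ∣ 2 * i + 0) = {0, k} := by
      ext i
      simp only [Finset.mem_filter, Finset.mem_range, Finset.mem_insert, Finset.mem_singleton,
        add_zero]
      constructor
      · rintro ⟨hi, hd⟩
        rcases small (c := 0) hi (by omega) (by simpa using hd) with h | h <;> omega
      · rintro (rfl | rfl)
        · exact ⟨by omega, by simp⟩
        · exact ⟨by omega, by rw [hk]⟩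
    have fy : ((Finset.range ℓ).filter fun i => ℓ ∣ 2 * i + 1) = ∅ := by
      rw [Finset.filter_eq_empty_iff]
      intro i hi hd
      rcases small (c := 1) (Finset.mem_range.1 hi) le_rfl hd with h | h <;> omega
    rw [fx, Finset.card_pair (by omega)] at hcx
    rw [fy, Finset.card_empty] at hcy
    refine ⟨x * y * x, x, hR.swapped, fun h => ?_, fun _ => ?_⟩
    · rw [hsig, hk, pow_mul, neg_one_sq, one_pow] at h
      exact absurd h (by decide)
    · rw [card_support_conj hxx]; omega
  · -- odd length
    have fx : ((Finset.range ℓ).filter fun i => ℓ ∣ 2 * i + 0) = {0} := by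
      ext i
      simp only [Finset.mem_filter, Finset.mem_range, Finset.mem_singleton, add_zero]
      constructor
      · rintro ⟨hi, hd⟩
        rcases small (c := 0) hi (by omega) (by simpa using hd) with h | h <;> omega
      · rintro rfl
        exact ⟨by omega, by simp⟩
    have fy : ((Finset.range ℓ).filter fun i => ℓ ∣ 2 * i + 1) = {k} := by
      ext i
      simp only [Finset.mem_filter, Finset.mem_range, Finset.mem_singleton]
      constructor
      · rintro ⟨hi, hd⟩
        rcases small (c := 1) hi le_rfl hd with h | h <;> omega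
      · rintro rfl
        exact ⟨by omega, by rw [hk]⟩
    rw [fx, Finset.card_singleton] at hcx
    rw [fy, Finset.card_singleton] at hcy
    refine ⟨x, y, hR, fun _ => by omega, fun h => ?_⟩
    rw [hsig, hk, pow_succ, pow_mul, neg_one_sq, one_pow, one_mul, neg_neg] at h
    exact absurd h (by decide)

theorem exists_refl (g : Perm α) : ∃ x y, Refl g x y ∧ Balanced g x y := by
  induction g using cycle_induction_on with
  | base_one =>
    exact ⟨1, 1, ⟨one_mul 1, one_mul 1, (one_mul 1).symm, le_rfl, le_rfl, fun h => absurd rfl h⟩,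
      fun _ => rfl, fun h => absurd h (by rw [map_one]; decide)⟩
  | base_cycles σ hσ => exact exists_refl_cycle hσ
  | induction_disjoint σ τ hd _ ihσ ihτ =>
    obtain ⟨x₁, y₁, h₁, e₁, o₁⟩ := ihσ
    obtain ⟨x₂, y₂, h₂, e₂, o₂⟩ := ihτ
    rcases Int.units_eq_one_or (sign σ) with s₁ | s₁ <;>
      rcases Int.units_eq_one_or (sign τ) with s₂ | s₂
    · obtain ⟨h, cx, cy⟩ := Refl.mul hd h₁ h₂
      have := e₁ s₁; have := e₂ s₂
      exact ⟨_, _, h, fun _ => by omega, fun hh => absurd hh (by rw [map_mul, s₁, s₂]; decide)⟩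
    · obtain ⟨h, cx, cy⟩ := Refl.mul hd h₁ h₂
      have := e₁ s₁; have := o₂ s₂
      exact ⟨_, _, h, fun hh => absurd hh (by rw [map_mul, s₁, s₂]; decide), fun _ => by omega⟩
    · obtain ⟨h, cx, cy⟩ := Refl.mul hd h₁ h₂
      have := o₁ s₁; have := e₂ s₂
      exact ⟨_, _, h, fun hh => absurd hh (by rw [map_mul, s₁, s₂]; decide), fun _ => by omega⟩
    · obtain ⟨h, cx, cy⟩ := Refl.mul hd h₁ h₂.swapped
      rw [card_support_conj h₂.xx] at cx
      have := o₁ s₁; have := o₂ s₂
      exact ⟨_, _, h, fun _ => by omega, fun hh => absurd hh (by rw [map_mul, s₁, s₂]; decide)⟩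

theorem cycleType_of_sq {x : Perm α} (hx : x * x = 1) :
    x.cycleType = Multiset.replicate x.cycleType.card 2 ∧ x.support.card = 2 * x.cycleType.card := by
  haveI : Fact (Nat.Prime 2) := ⟨Nat.prime_two⟩
  have h : x.cycleType = Multiset.replicate x.cycleType.card 2 :=
    Multiset.eq_replicate.mpr ⟨rfl, pow_prime_eq_one_iff.mp (by rw [sq]; exact hx)⟩
  refine ⟨h, ?_⟩
  rw [← sum_cycleType, h, Multiset.sum_replicate, Multiset.card_replicate, smul_eq_mul, mul_comm]

/-- Two points pairs interchanged by a permutation. -/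
def TwoPairs (x : Perm α) : Prop :=
  ∃ a b c d, a ≠ b ∧ c ≠ d ∧ a ≠ c ∧ a ≠ d ∧ b ≠ c ∧ b ≠ d ∧
    x a = b ∧ x b = a ∧ x c = d ∧ x d = c

theorem isThreeCycle_swap_mul {a b p : α} (hab : a ≠ b) (hap : a ≠ p) (hbp : b ≠ p) :
    (swap a b * swap p a).IsThreeCycle := by
  rw [Equiv.swap_comm p a]
  exact isThreeCycle_swap_mul_swap_same hab hap hbp

/-- An involution times a transposition joining a fixed point to a moved one. -/
theorem cycleType_mul_swap {x : Perm α} (hx : x * x = 1) {p q : α} (hp : x p = p) (hq : x q ≠ q) :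
    (x * swap p q).cycleType = 3 ::ₘ Multiset.replicate (x.cycleType.card - 1) 2 := by
  classical
  have hxx : ∀ t, x (x t) = t := fun t => by rw [← Perm.mul_apply, hx, one_apply]
  have hpq : p ≠ q := fun e => hq (e ▸ hp)
  have hpxq : x q ≠ p := fun e => hpq (by rw [← hp, ← e, hxx])
  let x₀ : Perm α := swap q (x q) * x
  have hconj : x * swap q (x q) * x = swap q (x q) := by
    refine Eq.trans ?_ (Equiv.swap_comm (x q) q)
    have := Equiv.swap_apply_apply x q (x q)
    rw [hxx] at this
    rw [this, inv_eq_of_mul_eq_one_right hx]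
  have hcomm : swap q (x q) * x = x * swap q (x q) := by
    conv_lhs => rw [← hconj]
    rw [mul_assoc, hx, mul_one]
  have hx₀p : x₀ p = p := by
    show swap q (x q) (x p) = p
    rw [hp, swap_apply_of_ne_of_ne hpq hpxq.symm]
  have hx₀q : x₀ q = q := by
    show swap q (x q) (x q) = q
    rw [swap_apply_right]
  have hx₀xq : x₀ (x q) = x q := by
    show swap q (x q) (x (x q)) = x q
    rw [hxx, swap_apply_left]
  have hx₀x₀ : x₀ * x₀ = 1 := by
    show swap q (x q) * x * (swap q (x q) * x) = 1
    rw [mul_assoc, ← mul_assoc x, hconj, swap_mul_self]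
  have e1 : x * swap p q = (swap q (x q) * swap p q) * x₀ := by
    have hd : swap p q * x₀ = x₀ * swap p q := by
      have := Equiv.swap_apply_apply x₀ p q
      rw [hx₀p, hx₀q] at this
      conv_lhs => rw [this]
      group
    rw [mul_assoc, hd]
    show x * swap p q = swap q (x q) * (swap q (x q) * x * swap p q)
    rw [← mul_assoc, ← mul_assoc, swap_mul_self, one_mul]
  have h3 : (swap q (x q) * swap p q).IsThreeCycle := isThreeCycle_swap_mul (Ne.symm hq) hpq.symm hpxq
  have hdis : Disjoint (swap q (x q) * swap p q) x₀ := by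
    intro t
    by_cases ht : t = p ∨ t = q ∨ t = x q
    · right
      rcases ht with rfl | rfl | rfl
      · exact hx₀p
      · exact hx₀q
      · exact hx₀xq
    · left
      push Not at ht
      rw [Perm.mul_apply, swap_apply_of_ne_of_ne ht.1 ht.2.1,
        swap_apply_of_ne_of_ne ht.2.1 ht.2.2]
  obtain ⟨hc, hs⟩ := cycleType_of_sq hx
  obtain ⟨hc₀, hs₀⟩ := cycleType_of_sq hx₀x₀
  have hsupp : x₀.support = (x.support.erase q).erase (x q) := by
    ext t
    simp only [Finset.mem_erase, mem_support]
    constructor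
    · intro ht
      have h1 : t ≠ x q := fun e => ht (e ▸ hx₀xq)
      have h2 : t ≠ q := fun e => ht (e ▸ hx₀q)
      refine ⟨h1, h2, fun e => ht ?_⟩
      show swap q (x q) (x t) = t
      rw [e, swap_apply_of_ne_of_ne h2 h1]
    · rintro ⟨h1, h2, h3⟩ e
      apply h3
      have e' : x t = swap q (x q) t := by
        conv_rhs => rw [← e]
        exact (swap_apply_self q (x q) (x t)).symm
      rwa [swap_apply_of_ne_of_ne h2 h1] at e'
  have hcard : x₀.cycleType.card = x.cycleType.card - 1 := by
    have h1 : q ∈ x.support := mem_support.2 hq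
    have h2 : x q ∈ x.support.erase q := Finset.mem_erase.2 ⟨hq, apply_mem_support.2 h1⟩
    have : x₀.support.card = x.support.card - 1 - 1 := by
      rw [hsupp, Finset.card_erase_of_mem h2, Finset.card_erase_of_mem h1]
    omega
  rw [e1, hdis.cycleType_mul, h3.cycleType, hc₀, hcard]
  rfl

/-- The factorisation used for commutators in the double cover. -/
theorem exists_pair_factor (h5 : 5 ≤ Fintype.card α) (g : Perm α) (hg : sign g = 1) :
    ∃ x y : Perm α, sign x = 1 ∧ g = x * y ∧ x.cycleType = y.cycleType ∧ TwoPairs x := by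
  classical
  by_cases hg1 : g = 1
  · obtain ⟨s, hs⟩ := Finset.exists_subset_card_eq (s := (Finset.univ : Finset α)) (n := 4)
      (by rw [Finset.card_univ]; omega)
    obtain ⟨a, b, c, d, hab, hac, had, hbc, hbd, hcd, -⟩ := Finset.card_eq_four.1 hs.2
    refine ⟨swap a b * swap c d, swap a b * swap c d, ?_, ?_, rfl, a, b, c, d, hab, hcd, hac, had,
      hbc, hbd, ?_, ?_, ?_, ?_⟩
    · rw [map_mul, sign_swap hab, sign_swap hcd]; rfl
    · have hc : Commute (swap a b) (swap c d) := by
        refine Disjoint.commute fun t => ?_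
        by_cases ht : t = a ∨ t = b
        · right
          rcases ht with rfl | rfl
          · exact swap_apply_of_ne_of_ne hac had
          · exact swap_apply_of_ne_of_ne hbc hbd
        · left
          push Not at ht
          exact swap_apply_of_ne_of_ne ht.1 ht.2
      rw [hg1, hc.symm.mul_mul_mul_comm, swap_mul_self, swap_mul_self, one_mul]
    all_goals simp [swap_apply_of_ne_of_ne, hab, hcd, hac, had, hbc, hbd, hab.symm, hcd.symm,
      hac.symm, had.symm, hbc.symm, hbd.symm]
  obtain ⟨x, y, hR, heven, -⟩ := exists_refl g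
  obtain ⟨hcx, hsx⟩ := cycleType_of_sq hR.xx
  obtain ⟨hcy, hsy⟩ := cycleType_of_sq hR.yy
  have hcard := heven hg
  have hT : y.cycleType.card = x.cycleType.card := by omega
  have hxy : x.cycleType = y.cycleType := by rw [hcx, hcy, hT]
  set T := x.cycleType.card with hTdef
  have hxx : ∀ t, x (x t) = t := fun t => by rw [← Perm.mul_apply, hR.xx, one_apply]
  have hsign : sign x = (-1) ^ T := by
    rw [sign_of_cycleType, hcx, Multiset.sum_replicate, Multiset.card_replicate, smul_eq_mul,
      pow_add, pow_mul', Int.units_sq, one_pow, one_mul]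
  have hpos : 0 < T := by
    by_contra h0
    have e1 : x = 1 := support_eq_empty_iff.1 (Finset.card_eq_zero.1 (by omega))
    have e2 : y = 1 := support_eq_empty_iff.1 (Finset.card_eq_zero.1 (by omega))
    exact hg1 (by rw [hR.eq, e1, e2, one_mul])
  -- two pairs avoiding a given one
  have pairs : ∀ q, 2 ≤ T → (T = 2 → x q = q) → ∃ a c, a ∈ x.support ∧ c ∈ x.support ∧ a ≠ c ∧
      a ≠ x c ∧ a ≠ q ∧ a ≠ x q ∧ c ≠ q ∧ c ≠ x q := by
    intro q h2 hq
    have h4 : 4 ≤ (x.support \ {q, x q}).card := by
      by_cases hxq : x q = q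
      · rw [show x.support \ {q, x q} = x.support by
          rw [hxq]
          refine Finset.sdiff_eq_self_iff_disjoint.2 ?_
          simp [hxq]]
        omega
      · have := Finset.le_card_sdiff ({q, x q} : Finset α) x.support
        rw [Finset.card_pair (Ne.symm hxq)] at this
        have : T ≠ 2 := fun e => hxq (hq e)
        omega
    obtain ⟨c, hc⟩ := Finset.card_pos.1 (by omega : 0 < (x.support \ {q, x q}).card)
    obtain ⟨a, ha⟩ := Finset.card_pos.1 (show 0 < ((x.support \ {q, x q}) \ {c, x c}).card by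
      have := Finset.le_card_sdiff ({c, x c} : Finset α) (x.support \ {q, x q})
      have := (Finset.card_insert_le c ({x c} : Finset α))
      simp only [Finset.card_singleton] at this
      omega)
    simp only [Finset.mem_sdiff, Finset.mem_insert, Finset.mem_singleton, not_or] at ha hc
    exact ⟨a, c, ha.1.1, hc.1, ha.2.1, ha.2.2, ha.1.2.1, ha.1.2.2, hc.2.1, hc.2.2⟩
  rcases Nat.even_or_odd T with hTe | hTo
  · -- an even number of transpositions
    have h2 : 2 ≤ T := by obtain ⟨r, hr⟩ := hTe; omega
    refine ⟨x, y, by rw [hsign, hTe.neg_one_pow], hR.eq, hxy, ?_⟩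
    obtain ⟨t, -, ht⟩ : ∃ t ∈ (Finset.univ : Finset α), (T = 2 → x t = t) := by
      obtain ⟨t, ht⟩ := Finset.card_pos.1 (show 0 < (Finset.univ : Finset α).card by
        rw [Finset.card_univ]; omega)
      by_cases hT2 : T = 2
      · have hlt : x.support.card < (Finset.univ : Finset α).card := by
          rw [Finset.card_univ]; omega
        obtain ⟨u, hu, hu'⟩ := Finset.exists_mem_notMem_of_card_lt_card hlt
        exact ⟨u, hu, fun _ => notMem_support.1 hu'⟩
      · exact ⟨t, ht, fun h => absurd h hT2⟩
    obtain ⟨a, c, ha, hc, hac, haxc, -, -, -, -⟩ := pairs t h2 ht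
    exact ⟨a, x a, c, x c, (mem_support.1 ha).symm, (mem_support.1 hc).symm, hac, haxc,
      fun e => haxc (by rw [← e, hxx]), fun e => hac (x.injective e), rfl, hxx a, rfl, hxx c⟩
  · have hsignx : sign x = -1 := by rw [hsign, hTo.neg_one_pow]
    by_cases hT1 : T = 1
    · -- two transpositions
      have h1 : ∀ {z : Perm α}, z.cycleType = Multiset.replicate 1 2 →
          ∃ a b, a ≠ b ∧ z = swap a b := by
        intro z hz
        refine card_support_eq_two.1 ?_
        rw [← sum_cycleType, hz]; rfl
      obtain ⟨a, b, hab, rfl⟩ := h1 (z := x) (by rw [hcx, hT1])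
      obtain ⟨c, d, hcd, rfl⟩ := h1 (z := y) (by rw [hcy, hT, hT1])
      have hdiff := hR.differ hg1
      rw [support_swap hab, support_swap hcd] at hdiff
      by_cases hdisj : a ≠ c ∧ a ≠ d ∧ b ≠ c ∧ b ≠ d
      · obtain ⟨hac, had, hbc, hbd⟩ := hdisj
        refine ⟨swap a c * swap b d, swap a d * swap b c, ?_, ?_, ?_, a, c, b, d, hac, hbd, hab,
          had, hbc.symm, hcd, ?_, ?_, ?_, ?_⟩
        · rw [map_mul, sign_swap hac, sign_swap hbd]; rfl
        · rw [hR.eq]
          ext t
          by_cases h1 : t = a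
          · subst h1; simp [swap_apply_of_ne_of_ne, hab, hac, had, hbc, hbd, hcd, hab.symm, hac.symm, had.symm, hbc.symm, hbd.symm, hcd.symm]
          by_cases h2 : t = b
          · subst h2; simp [swap_apply_of_ne_of_ne, hab, hac, had, hbc, hbd, hcd, hab.symm, hac.symm, had.symm, hbc.symm, hbd.symm, hcd.symm]
          by_cases h3 : t = c
          · subst h3; simp [swap_apply_of_ne_of_ne, hab, hac, had, hbc, hbd, hcd, hab.symm, hac.symm, had.symm, hbc.symm, hbd.symm, hcd.symm]
          by_cases h4 : t = d
          · subst h4; simp [swap_apply_of_ne_of_ne, hab, hac, had, hbc, hbd, hcd, hab.symm, hac.symm, had.symm, hbc.symm, hbd.symm, hcd.symm]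
          simp [swap_apply_of_ne_of_ne, h1, h2, h3, h4]
        · have hd1 : Disjoint (swap a c) (swap b d) := disjoint_iff_disjoint_support.2 (by
            rw [support_swap hac, support_swap hbd]
            simp [hab.symm, had.symm, hbc, hcd.symm])
          have hd2 : Disjoint (swap a d) (swap b c) := disjoint_iff_disjoint_support.2 (by
            rw [support_swap had, support_swap hbc]
            simp [hab.symm, hac.symm, hbd, hcd])
          rw [hd1.cycleType_mul, hd2.cycleType_mul, (isCycle_swap hac).cycleType,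
            (isCycle_swap hbd).cycleType, (isCycle_swap had).cycleType,
            (isCycle_swap hbc).cycleType, card_support_swap hac, card_support_swap hbd,
            card_support_swap had, card_support_swap hbc]
        all_goals simp [swap_apply_of_ne_of_ne, hab, hac, had, hbc, hbd, hcd, hab.symm, hac.symm,
          had.symm, hbc.symm, hbd.symm, hcd.symm]
      · -- a three-cycle: add a transposition
        have h3 : ((swap a b).support ∪ (swap c d).support).card ≤ 3 := by
          rw [support_swap hab, support_swap hcd]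
          have hnd : ¬ _root_.Disjoint ({a, b} : Finset α) {c, d} := by
            simp only [Finset.disjoint_insert_left, Finset.disjoint_singleton_left,
              Finset.mem_insert, Finset.mem_singleton, not_or]
            tauto
          have := Finset.card_union_add_card_inter ({a, b} : Finset α) {c, d}
          rw [Finset.card_pair hab, Finset.card_pair hcd] at this
          have : 0 < (({a, b} : Finset α) ∩ {c, d}).card := Finset.card_pos.2
            (Finset.not_disjoint_iff_nonempty_inter.1 hnd)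
          omega
        set U := (swap a b).support ∪ (swap c d).support with hU
        obtain ⟨e, he, f, hf, hef⟩ := Finset.one_lt_card.1 (show 1 < (Finset.univ \ U).card by
          rw [Finset.card_univ_sdiff]; omega)
        simp only [Finset.mem_sdiff, Finset.mem_univ, true_and, hU, Finset.mem_union, not_or,
          notMem_support, support_swap hab, support_swap hcd, Finset.mem_insert,
          Finset.mem_singleton] at he hf
        have hd1 : Disjoint (swap a b) (swap e f) := disjoint_iff_disjoint_support.2 (by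
          rw [support_swap hab, support_swap hef]
          simp [he.1.1, he.1.2, hf.1.1, hf.1.2, Ne.symm])
        have hd2 : Disjoint (swap e f) (swap c d) := disjoint_iff_disjoint_support.2 (by
          rw [support_swap hcd, support_swap hef]
          simp [Ne.symm he.2.1, Ne.symm he.2.2, Ne.symm hf.2.1, Ne.symm hf.2.2])
        refine ⟨swap a b * swap e f, swap e f * swap c d, ?_, ?_, ?_, a, b, e, f, hab, hef,
          Ne.symm he.1.1, Ne.symm hf.1.1, Ne.symm he.1.2, Ne.symm hf.1.2, ?_, ?_, ?_, ?_⟩
        · rw [map_mul, sign_swap hab, sign_swap hef]; rfl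
        · rw [hR.eq, mul_assoc, ← mul_assoc (swap e f), swap_mul_self, one_mul]
        · rw [hd1.cycleType_mul, hd2.cycleType_mul, (isCycle_swap hab).cycleType,
            (isCycle_swap hcd).cycleType, (isCycle_swap hef).cycleType,
            card_support_swap hab, card_support_swap hcd, card_support_swap hef]
        all_goals simp [swap_apply_of_ne_of_ne, hab, hef, hab.symm, hef.symm, he.1.1, he.1.2,
          hf.1.1, hf.1.2, Ne.symm he.1.1, Ne.symm he.1.2, Ne.symm hf.1.1, Ne.symm hf.1.2]
    · have h3 : 3 ≤ T := by obtain ⟨r, hr⟩ := hTo; omega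
      have hne := hR.differ hg1
      obtain ⟨p, hpy, hpx⟩ : ∃ p ∈ y.support, p ∉ x.support := Finset.not_subset.1 fun h =>
        hne (Finset.eq_of_subset_of_card_le h hcard.le).symm
      obtain ⟨q, hqx, hqy⟩ : ∃ q ∈ x.support, q ∉ y.support := Finset.not_subset.1 fun h =>
        hne (Finset.eq_of_subset_of_card_le h hcard.ge)
      rw [mem_support] at hpy hqx
      rw [notMem_support] at hpx hqy
      have hpq : p ≠ q := fun e => hqx (e ▸ hpx)
      refine ⟨x * swap p q, swap p q * y, ?_, ?_, ?_, ?_⟩
      · rw [map_mul, hsignx, sign_swap hpq]; rfl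
      · rw [hR.eq, mul_assoc, ← mul_assoc (swap p q), swap_mul_self, one_mul]
      · rw [cycleType_mul_swap hR.xx hpx hqx, ← cycleType_inv (swap p q * y), mul_inv_rev,
          inv_eq_of_mul_eq_one_right hR.yy, swap_inv, Equiv.swap_comm p q,
          cycleType_mul_swap hR.yy hqy hpy, hT]
      · obtain ⟨a, c, ha, hc, hac, haxc, haq, haxq, hcq, hcxq⟩ :=
          pairs q (by omega) (fun h => by omega)
        have hp' : ∀ t ∈ x.support, t ≠ p := fun t ht e => mem_support.1 ht (e ▸ hpx)
        have key : ∀ t ∈ x.support, t ≠ q → (x * swap p q) t = x t := fun t ht htq => by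
          rw [Perm.mul_apply, swap_apply_of_ne_of_ne (hp' t ht) htq]
        have hxq : ∀ t, t ≠ x q → x t ≠ q := fun t ht e => ht (by rw [← e, hxx])
        exact ⟨a, x a, c, x c, (mem_support.1 ha).symm, (mem_support.1 hc).symm, hac, haxc,
          fun e => haxc (by rw [← e, hxx]), fun e => hac (x.injective e), key a ha haq,
          by rw [key _ (apply_mem_support.2 ha) (hxq a haxq), hxx], key c hc hcq,
          by rw [key _ (apply_mem_support.2 hc) (hxq c hcxq), hxx]⟩

end Cfsg.Agent.H25.DoubleCover
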