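import Cfsg.Prelude.Def_SporadicB
import Cfsg.Agent.H29.SmallDoubleCover
import Cfsg.Agent.H35.AltMultiplier
import Cfsg.Agent.H25.DoubleCover.Perm

/-!
Perfect double covers of alternating groups: lifts of double transpositions square to the central
involution, and every element is a commutator.
-/

set_option autoImplicit false
set_option linter.unusedSimpArgs false
set_option linter.style.haveILetI false

namespace Cfsg.Agent.H25.DoubleCover

open Equiv Equiv.Perm
open Cfsg.Agent.H35
open scoped commutatorElement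

/-- A perfect double cover of an alternating group, given by its projection. -/
structure Cover {G : Type*} [Group G] (n : ℕ) (π : G →* alternatingGroup (Fin n)) (z : G) : Prop where
  five : 5 ≤ n
  surj : Function.Surjective π
  ker_iff : ∀ g, π g = 1 ↔ g = 1 ∨ g = z
  z_ne : z ≠ 1
  z_sq : z * z = 1
  z_central : ∀ g, z * g = g * z
  perfect : commutator G = ⊤

variable {G : Type*} [Group G] {n : ℕ} {π : G →* alternatingGroup (Fin n)} {z : G}

theorem Cover.lift_eq (h : Cover n π z) {a b : G} (e : π a = π b) : a = b ∨ a = b * z := by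
  rcases (h.ker_iff (b⁻¹ * a)).1 (by rw [map_mul, map_inv, e, inv_mul_cancel]) with h1 | h1
  · exact Or.inl (inv_mul_eq_one.1 h1).symm
  · exact Or.inr (inv_mul_eq_iff_eq_mul.1 h1)

theorem Cover.π_z (h : Cover n π z) : π z = 1 := (h.ker_iff z).2 (Or.inr rfl)

theorem Cover.sq_lift (h : Cover n π z) {a b : G} (e : π a = π b) : a * a = b * b := by
  rcases h.lift_eq e with rfl | rfl
  · rfl
  · rw [mul_assoc b z, ← mul_assoc z b, h.z_central b, mul_assoc b z z, h.z_sq, mul_one]

theorem isConj_alt_of_type_two {u v : alternatingGroup (Fin n)}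
    (hu : (u : Perm (Fin n)).cycleType = Multiset.replicate 2 2)
    (hv : (v : Perm (Fin n)).cycleType = Multiset.replicate 2 2) :
    ∃ g : alternatingGroup (Fin n), g * u * g⁻¹ = v := by
  obtain ⟨g, hg⟩ := isConj_iff.1 (Perm.isConj_iff_cycleType_eq.2 (hu.trans hv.symm))
  obtain ⟨c, τ, hp, hd, hc⟩ : ∃ c τ, (u : Perm (Fin n)) = c * τ ∧ Perm.Disjoint c τ ∧ c.IsSwap := by
    have h2 : (2 : ℕ) ∈ (u : Perm (Fin n)).cycleType := by rw [hu]; simp
    rw [cycleType_def, Multiset.mem_map] at h2
    obtain ⟨c, hcm, hc2⟩ := h2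
    have hcm' : c ∈ (u : Perm (Fin n)).cycleFactorsFinset := hcm
    exact ⟨c, c⁻¹ * u, by group, by
      have := (disjoint_mul_inv_of_mem_cycleFactorsFinset hcm').symm
      rwa [← (self_mem_cycle_factors_commute hcm').inv_left.eq] at this,
      card_support_eq_two.1 hc2⟩
  obtain ⟨p, q, hpq, rfl⟩ := hc
  have hw : swap p q * (u : Perm (Fin n)) = (u : Perm (Fin n)) * swap p q := by
    rw [hp, mul_assoc, hd.commute.eq]
  rcases Int.units_eq_one_or (Perm.sign g) with hs | hs
  · exact ⟨⟨g, mem_alternatingGroup.2 hs⟩, Subtype.ext hg⟩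
  · refine ⟨⟨g * swap p q, mem_alternatingGroup.2 (by rw [map_mul, hs, sign_swap hpq]; rfl)⟩,
      Subtype.ext ?_⟩
    show g * swap p q * (u : Perm (Fin n)) * (g * swap p q)⁻¹ = v
    rw [mul_assoc g, hw, ← hg]
    group

theorem cycleType_two_swaps {a b c d : Fin n} (hab : a ≠ b) (hcd : c ≠ d) (hac : a ≠ c)
    (had : a ≠ d) (hbc : b ≠ c) (hbd : b ≠ d) :
    (swap a b * swap c d).cycleType = Multiset.replicate 2 2 := by
  have hd : Perm.Disjoint (swap a b) (swap c d) := disjoint_iff_disjoint_support.2 (by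
    rw [support_swap hab, support_swap hcd]
    simp [hac, had, hbc, hbd, hac.symm, had.symm, hbc.symm, hbd.symm])
  rw [hd.cycleType_mul, (isCycle_swap hab).cycleType, (isCycle_swap hcd).cycleType,
    card_support_swap hab, card_support_swap hcd]
  rfl

theorem Cover.sq_two (h : Cover n π z) [Finite G] {a : G}
    (ha : (π a : Perm (Fin n)).cycleType = Multiset.replicate 2 2) : a * a = z := by
  have hsqπ : ∀ {b : G}, (π b : Perm (Fin n)).cycleType = Multiset.replicate 2 2 →
      π (b * b) = 1 := fun {b} hb => by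
    haveI : Fact (Nat.Prime 2) := ⟨Nat.prime_two⟩
    refine Subtype.ext ?_
    rw [map_mul, Subgroup.coe_mul, ← sq, OneMemClass.coe_one, pow_prime_eq_one_iff, hb]
    exact fun c hc => Multiset.eq_of_mem_replicate hc
  refine ((h.ker_iff _).1 (hsqπ ha)).resolve_left fun ha1 => ?_
  -- all lifts of double transpositions are involutions
  have all1 : ∀ b : G, (π b : Perm (Fin n)).cycleType = Multiset.replicate 2 2 → b * b = 1 := by
    intro b hb
    obtain ⟨g, hg⟩ := isConj_alt_of_type_two ha hb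
    obtain ⟨k, rfl⟩ := h.surj g
    have e := h.sq_lift (a := k * a * k⁻¹) (b := b) (by rw [map_mul, map_mul, map_inv]; exact hg)
    rw [← e, show k * a * k⁻¹ * (k * a * k⁻¹) = k * (a * a) * k⁻¹ by group, ha1, mul_one,
      mul_inv_cancel]
  by_cases h8 : n ≤ 7
  · have hker : π.ker = Subgroup.center G := by
      refine le_antisymm (fun g hg => ?_) (fun g hg => ?_)
      · rcases (h.ker_iff g).1 hg with rfl | rfl
        · exact one_mem _
        · exact Subgroup.mem_center_iff.2 fun k => (h.z_central k).symm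
      · have hc : π g ∈ Subgroup.center (alternatingGroup (Fin n)) :=
          Subgroup.mem_center_iff.2 fun v => by
            obtain ⟨k, rfl⟩ := h.surj v
            rw [← map_mul, ← map_mul, Subgroup.mem_center_iff.1 hg k]
        rwa [alternatingGroup.center_eq_bot (by rw [Nat.card_fin]; have := h.five; omega),
          Subgroup.mem_bot] at hc
    have hz : orderOf z = 2 := orderOf_eq_prime (by rw [sq, h.z_sq]) h.z_ne
    have hne : a ≠ 1 := fun e => by
      rw [e, map_one] at ha
      simp at ha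
    have ha2 : orderOf a = 2 := orderOf_eq_prime (by rw [sq, ha1]) hne
    have hcard : Nat.card (Subgroup.center G) = 2 := by
      rw [← hker]
      have : ∀ x : π.ker, x = 1 ∨ x = ⟨z, h.π_z⟩ := fun x =>
        ((h.ker_iff x).1 x.2).imp (fun e => Subtype.ext e) (fun e => Subtype.ext e)
      rw [Nat.card_eq_two_iff' (1 : π.ker)]
      exact ⟨⟨z, h.π_z⟩, fun e => h.z_ne (congrArg Subtype.val e),
        fun x hx => (this x).resolve_left hx⟩
    have hns : Cfsg.IsNonsplitDoubleCover G (alternatingGroup (Fin n)) := by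
      refine ⟨hcard, ⟨(QuotientGroup.quotientMulEquivOfEq hker.symm).trans
        (QuotientGroup.quotientKerEquivOfSurjective π h.surj)⟩, ?_⟩
      intro K hK
      have hle : commutator G ≤ K := by
        rw [commutator_def, Subgroup.commutator_le]
        intro u _ v _
        obtain ⟨⟨k₁, u₁⟩, rfl⟩ := hK.2 u
        obtain ⟨⟨k₂, v₁⟩, rfl⟩ := hK.2 v
        have c1 := Subgroup.mem_center_iff.1 k₁.2
        have c2 := Subgroup.mem_center_iff.1 k₂.2
        show ⁅(k₁ : G) * (u₁ : G), (k₂ : G) * (v₁ : G)⁆ ∈ K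
        rw [← c1 (u₁ : G), ← c2 (v₁ : G)]
        have : ⁅(u₁ : G) * (k₁ : G), (v₁ : G) * (k₂ : G)⁆ = ⁅(u₁ : G), (v₁ : G)⁆ := by
          simp only [commutatorElement_def, mul_inv_rev]
          calc (u₁ : G) * k₁ * (v₁ * k₂) * ((k₁ : G)⁻¹ * (u₁ : G)⁻¹) * ((k₂ : G)⁻¹ * (v₁ : G)⁻¹)
              = (u₁ : G) * (k₁ * v₁) * k₂ * (k₁ : G)⁻¹ * (u₁ : G)⁻¹ * (k₂ : G)⁻¹ * (v₁ : G)⁻¹ := by
                group
            _ = (u₁ : G) * v₁ * (k₁ * k₂) * (k₁ : G)⁻¹ * (u₁ : G)⁻¹ * (k₂ : G)⁻¹ * (v₁ : G)⁻¹ := by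
                rw [← c1 (v₁ : G)]; group
            _ = (u₁ : G) * v₁ * ((k₂ : G) * (u₁ : G)⁻¹) * (k₂ : G)⁻¹ * (v₁ : G)⁻¹ := by
                rw [← c1 (k₂ : G)]; group
            _ = (u₁ : G) * v₁ * ((u₁ : G)⁻¹ * (k₂ : G)) * (k₂ : G)⁻¹ * (v₁ : G)⁻¹ := by
                rw [← c2 (u₁ : G)⁻¹]
            _ = _ := by group
        rw [this]
        exact K.mul_mem (K.mul_mem (K.mul_mem u₁.2 v₁.2) (K.inv_mem u₁.2)) (K.inv_mem v₁.2)
      rw [h.perfect, top_le_iff] at hle
      subst hle
      have := hK.1 (a₁ := (⟨z, Subgroup.mem_center_iff.2 fun k => (h.z_central k).symm⟩, 1))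
        (a₂ := (1, ⟨z, Subgroup.mem_top z⟩))
        (show z * 1 = 1 * z by rw [mul_one, one_mul])
      exact h.z_ne (congrArg Subtype.val (congrArg Prod.fst this))
    have e := H29.involution_unique h8 hns a z ha2 hz
    rw [e, h.π_z] at ha
    simp at ha
  -- degree at least eight: the extension by `ℂˣ` splits
  obtain ⟨m, rfl⟩ : ∃ m, n = m + 2 := ⟨n - 2, by have := h.five; omega⟩
  have hm1 : (-1 : ℂˣ) ≠ 1 := fun e => by
    have := congrArg (Units.val : ℂˣ → ℂ) e
    norm_num at this
  let w : G × ℂˣ := (z, -1)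
  have hwc : ∀ q : G × ℂˣ, w * q = q * w := fun q => Prod.ext (h.z_central q.1) (mul_comm _ _)
  let N : Subgroup (G × ℂˣ) := Subgroup.zpowers w
  have hw2 : w ^ (2 : ℤ) = 1 := by
    rw [zpow_two]
    exact Prod.ext h.z_sq (by show (-1 : ℂˣ) * -1 = 1; simp)
  have hN : ∀ {q : G × ℂˣ}, q ∈ N → q = 1 ∨ q = w := by
    intro q hq
    obtain ⟨k, rfl⟩ := Subgroup.mem_zpowers_iff.1 hq
    rcases Int.even_or_odd k with ⟨r, rfl⟩ | ⟨r, rfl⟩
    · left; rw [← two_mul, zpow_mul, hw2, one_zpow]
    · right; rw [zpow_add, zpow_mul, hw2, one_zpow, one_mul, zpow_one]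
  haveI : N.Normal := ⟨fun q hq g => by
    rcases hN hq with rfl | rfl
    · simp
    · rw [← hwc, mul_inv_cancel_right]; exact hq⟩
  let ρ : (G × ℂˣ) ⧸ N →* alternatingGroup (Fin (m + 2)) :=
    QuotientGroup.lift N (π.comp (MonoidHom.fst G ℂˣ)) fun q hq => by
      rcases hN hq with rfl | rfl
      · simp
      · exact h.π_z
  have hρ : ∀ q : G × ℂˣ, ρ (QuotientGroup.mk' N q) = π q.1 := fun q => rfl
  have hρs : Function.Surjective ρ := fun v => by
    obtain ⟨g, rfl⟩ := h.surj v
    exact ⟨QuotientGroup.mk' N (g, 1), hρ _⟩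
  have hrep : ∀ k ∈ ρ.ker, ∃ l : ℂˣ, k = QuotientGroup.mk' N (1, l) := by
    intro k hk
    obtain ⟨⟨g, l⟩, rfl⟩ := QuotientGroup.mk'_surjective N k
    rcases (h.ker_iff g).1 (by rw [← hρ (g, l)]; exact hk) with e | e <;> subst g
    · exact ⟨l, rfl⟩
    · refine ⟨-l, (QuotientGroup.eq).2 ?_⟩
      show (z, l)⁻¹ * (1, -l) ∈ N
      have : ((z, l) : G × ℂˣ)⁻¹ * (1, -l) = w := Prod.ext
        (by show z⁻¹ * 1 = z; rw [mul_one]; exact inv_eq_of_mul_eq_one_right h.z_sq)
        (by show l⁻¹ * -l = -1; simp)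
      rw [this]
      exact Subgroup.mem_zpowers w
  have hcen : ρ.ker ≤ Subgroup.center ((G × ℂˣ) ⧸ N) := by
    intro k hk
    obtain ⟨l, rfl⟩ := hrep k hk
    refine Subgroup.mem_center_iff.2 fun v => ?_
    obtain ⟨q, rfl⟩ := QuotientGroup.mk'_surjective N v
    rw [← map_mul, ← map_mul]
    exact congrArg _ (Prod.ext (by show q.1 * 1 = 1 * q.1; rw [mul_one, one_mul]) (mul_comm _ _))
  have hroot : ∀ r : ℕ, 0 < r → ∀ k ∈ ρ.ker, ∃ v ∈ ρ.ker, v ^ r = k := by
    intro r hr k hk
    obtain ⟨l, rfl⟩ := hrep k hk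
    obtain ⟨x, hx⟩ := IsAlgClosed.exists_pow_nat_eq (l : ℂ) hr
    have hx0 : x ≠ 0 := fun e => l.ne_zero (by rw [← hx, e, zero_pow hr.ne'])
    refine ⟨QuotientGroup.mk' N (1, Units.mk0 x hx0), ?_, ?_⟩
    · rw [MonoidHom.mem_ker, hρ, map_one]
    · rw [← map_pow]
      exact congrArg _ (Prod.ext (one_pow r) (Units.ext (by simpa using hx)))
  have hfar : ∀ i j : Fin m, 1 ≤ (i : ℕ) → (i : ℕ) + 2 ≤ j → ∀ a b : (G × ℂˣ) ⧸ N,
      ρ a = AltPres.gen m i → ρ b = AltPres.gen m j → a * b = b * a := by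
    intro i j hi hij a b ha hb
    obtain ⟨⟨u, l⟩, rfl⟩ := QuotientGroup.mk'_surjective N a
    obtain ⟨⟨v, l'⟩, rfl⟩ := QuotientGroup.mk'_surjective N b
    rw [hρ] at ha hb
    have t : ∀ k : Fin m, 1 ≤ (k : ℕ) →
        (AltPres.gen m k : Perm (Fin (m + 2))).cycleType = Multiset.replicate 2 2 := fun k hk => by
      rw [AltPres.coe_gen, AltPres.swp_eq (by omega), AltPres.swp_eq (by have := k.2; omega)]
      exact cycleType_two_swaps (by simp [Fin.ext_iff]) (by simp [Fin.ext_iff])
        (by simp [Fin.ext_iff]) (by simp [Fin.ext_iff]) (by simp [Fin.ext_iff]; omega)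
        (by simp [Fin.ext_iff])
    have e1 : u * u = 1 := all1 u (by rw [ha]; exact t i hi)
    have e2 : v * v = 1 := all1 v (by rw [hb]; exact t j (by omega))
    have e3 : u * v * (u * v) = 1 := by
      refine all1 _ ?_
      rw [map_mul, ha, hb, Subgroup.coe_mul, AltPres.coe_gen, AltPres.coe_gen,
        AltPres.swp_eq (show 0 + 1 < m + 2 by omega),
        AltPres.swp_eq (show (i : ℕ) + 1 + 1 < m + 2 by have := i.2; omega),
        AltPres.swp_eq (show (j : ℕ) + 1 + 1 < m + 2 by have := j.2; omega)]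
      have hc : Commute (swap (⟨0, by omega⟩ : Fin (m + 2)) ⟨0 + 1, by omega⟩)
          (swap ⟨(i : ℕ) + 1, by omega⟩ ⟨(i : ℕ) + 1 + 1, by omega⟩) :=
        (disjoint_iff_disjoint_support.2 (by
          rw [support_swap (by simp [Fin.ext_iff]), support_swap (by simp [Fin.ext_iff])]
          simp [Fin.ext_iff]; omega)).commute
      rw [hc.eq, mul_assoc, ← mul_assoc (swap (⟨0, by omega⟩ : Fin (m + 2)) ⟨0 + 1, by omega⟩),
        swap_mul_self, one_mul]
      exact cycleType_two_swaps (by simp [Fin.ext_iff]) (by simp [Fin.ext_iff])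
        (by simp [Fin.ext_iff]; omega) (by simp [Fin.ext_iff]; omega)
        (by simp [Fin.ext_iff]; omega) (by simp [Fin.ext_iff]; omega)
    have huv : u * v = v * u := by
      calc u * v = u * (u * v * (u * v)) * v := by rw [e3, mul_one]
        _ = (u * u) * v * u * (v * v) := by group
        _ = v * u := by rw [e1, e2, one_mul, mul_one]
    rw [← map_mul, ← map_mul]
    exact congrArg _ (Prod.ext huv (mul_comm _ _))
  obtain ⟨σ, hσ⟩ := AltMult.exists_section ρ hcen hρs (hroot 2 two_pos) (hroot 3 three_pos)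
    (Or.inr (Or.inr (by omega))) hfar (fun hm => absurd hm (by omega))
  -- the section lands in the image of `G`
  let ι : G →* (G × ℂˣ) ⧸ N := (QuotientGroup.mk' N).comp (MonoidHom.inl G ℂˣ)
  have hι : Function.Injective ι := by
    rw [injective_iff_map_eq_one]
    intro g hg
    have : ((g, 1) : G × ℂˣ) ∈ N := (QuotientGroup.eq_one_iff _).1 hg
    rcases hN this with e | e
    · exact congrArg Prod.fst e
    · exact absurd (congrArg Prod.snd e).symm hm1
  have hAperf : commutator (alternatingGroup (Fin (m + 2))) = ⊤ := by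
    rw [commutator_def, ← Subgroup.map_top_of_surjective π h.surj, ← Subgroup.map_commutator,
      ← commutator_def, h.perfect]
  have himg : ∀ v, ∃ g : G, ι g = σ v := by
    intro v
    have hv : σ v ∈ (commutator (alternatingGroup (Fin (m + 2)))).map σ :=
      ⟨v, by rw [hAperf]; trivial, rfl⟩
    rw [commutator_def, Subgroup.map_commutator] at hv
    have hle : ⁅(⊤ : Subgroup (alternatingGroup (Fin (m + 2)))).map σ,
        (⊤ : Subgroup (alternatingGroup (Fin (m + 2)))).map σ⁆ ≤ ι.range := by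
      rw [Subgroup.commutator_le]
      intro a _ b _
      obtain ⟨⟨a₁, a₂⟩, rfl⟩ := QuotientGroup.mk'_surjective N a
      obtain ⟨⟨b₁, b₂⟩, rfl⟩ := QuotientGroup.mk'_surjective N b
      refine ⟨⁅a₁, b₁⁆, ?_⟩
      show QuotientGroup.mk' N ((⁅a₁, b₁⁆, 1) : G × ℂˣ) = _
      rw [← map_commutatorElement]
      exact congrArg _ (Prod.ext rfl (by
        show 1 = a₂ * b₂ * a₂⁻¹ * b₂⁻¹
        rw [mul_comm a₂ b₂, mul_inv_cancel_right, mul_inv_cancel]))
    exact hle hv
  choose s hs using himg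
  let S : alternatingGroup (Fin (m + 2)) →* G :=
    MonoidHom.mk' s fun a b => hι (by rw [hs, map_mul, map_mul, hs, hs])
  have hπS : ∀ v, π (S v) = v := fun v => by
    have := hσ v
    rw [← hs v] at this
    exact this
  have htop : (⊤ : Subgroup G) ≤ S.range := by
    rw [← h.perfect, commutator_def, Subgroup.commutator_le]
    intro u _ v _
    refine ⟨⁅π u, π v⁆, ?_⟩
    rw [map_commutatorElement]
    have hu := h.lift_eq (a := u) (b := S (π u)) (hπS _).symm
    have hv := h.lift_eq (a := v) (b := S (π v)) (hπS _).symm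
    have hzc : ∀ x y : G, ⁅x * z, y⁆ = ⁅x, y⁆ := fun x y => by
      simp only [commutatorElement_def, mul_inv_rev]
      rw [mul_assoc x z y, h.z_central y]
      group
    have hzc' : ∀ x y : G, ⁅x, y * z⁆ = ⁅x, y⁆ := fun x y => by
      rw [← inv_inj, commutatorElement_inv, commutatorElement_inv, hzc]
    rcases hu with hu | hu <;> rcases hv with hv | hv
    all_goals conv_rhs => rw [hu, hv]
    all_goals simp [hzc, hzc']
  obtain ⟨v, hv⟩ := htop (Subgroup.mem_top z)
  have := hπS v
  rw [hv, h.π_z] at this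
  rw [← this, map_one] at hv
  exact h.z_ne hv.symm

/-- The commutation factor is trivial on a permutation fixing four points. -/
theorem Cover.commute_fixing (h : Cover n π z) {C R : G} {s : Finset (Fin n)}
    (hC : ∀ i, i ∉ s → (π C : Perm (Fin n)) i = i)
    (hR : ∀ i ∈ s, (π R : Perm (Fin n)) i = i) : C * R = R * C := by
  classical
  let K : Subgroup G := Subgroup.centralizer {C}
  have hK : ∀ {R : G}, R ∈ K ↔ C * R = R * C := fun {R} => by
    rw [Subgroup.mem_centralizer_singleton_iff]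
    exact ⟨Eq.symm, Eq.symm⟩
  suffices key : ∀ τ : alternatingGroup {i : Fin n // i ∉ s},
      ∃ v ∈ K, (π v : Perm (Fin n)) = Perm.ofSubtype (τ : Perm {i : Fin n // i ∉ s}) by
    have hst : ∀ i, (i ∉ s) ↔ (π R : Perm (Fin n)) i ∉ s := fun i => by
      refine not_congr ⟨fun hi => by rwa [hR i hi], fun hi => ?_⟩
      have := hR _ hi
      rw [(π R : Perm (Fin n)).injective this] at hi
      exact hi
    let τ₀ : Perm {i : Fin n // i ∉ s} :=
      Perm.subtypePerm (π R : Perm (Fin n)) fun i => (hst i).symm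
    have hofS : Perm.ofSubtype τ₀ = (π R : Perm (Fin n)) := by
      refine Perm.ofSubtype_subtypePerm _ ?_
      intro i hi hi'
      exact hi (hR i hi')
    let τ : alternatingGroup {i : Fin n // i ∉ s} :=
      ⟨τ₀, mem_alternatingGroup.2 (by
        rw [← Perm.sign_ofSubtype, hofS]
        exact mem_alternatingGroup.1 (π R).2)⟩
    obtain ⟨v, hv, hπ⟩ := key τ
    rw [hK] at hv
    rcases h.lift_eq (a := R) (b := v) (Subtype.ext (by rw [hπ]; exact hofS.symm)) with rfl | rfl
    · exact hv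
    · rw [← mul_assoc, hv, mul_assoc, ← h.z_central, ← mul_assoc]
  intro τ
  have hmem : (τ : Perm {i : Fin n // i ∉ s}) ∈
      (Subgroup.closure {σ : Perm {i : Fin n // i ∉ s} | σ.IsThreeCycle}) := by
    rw [Perm.closure_three_cycles_eq_alternating]; exact τ.2
  refine Subgroup.closure_induction (p := fun σ _ => ∃ v ∈ K, (π v : Perm (Fin n)) = Perm.ofSubtype σ)
    ?_ ⟨1, one_mem K, by simp⟩ ?_ ?_ hmem
  · intro σ hσ
    obtain ⟨v, hv⟩ := h.surj ⟨Perm.ofSubtype σ, mem_alternatingGroup.2 (by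
      rw [Perm.sign_ofSubtype]; exact hσ.sign)⟩
    have hv' : (π v : Perm (Fin n)) = Perm.ofSubtype σ := congrArg Subtype.val hv
    refine ⟨v, hK.2 ?_, hv'⟩
    have hcomm : π C * π v = π v * π C := Subtype.ext (Perm.Disjoint.commute fun i => by
      by_cases hi : i ∈ s
      · right; rw [hv']; exact Perm.ofSubtype_apply_of_not_mem σ (by simp [hi])
      · left; exact hC i hi).eq
    rcases h.lift_eq (a := C * v) (b := v * C) (by rw [map_mul, map_mul, hcomm]) with e | e
    · exact e
    exfalso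
    have h3 : v ^ 3 * z = v ^ 3 := by
      have h1 : C * v * C⁻¹ = v * z := by
        rw [e, mul_assoc v C z, ← h.z_central C, ← mul_assoc, mul_inv_cancel_right]
      have hc3 : C * v ^ 3 = v ^ 3 * C := by
        have hk : π (v ^ 3) = 1 := Subtype.ext (by
          rw [map_pow, Subgroup.coe_pow, hv', ← map_pow,
            show σ ^ 3 = 1 by rw [← hσ.orderOf]; exact pow_orderOf_eq_one σ, map_one]; rfl)
        rcases (h.ker_iff _).1 hk with e3 | e3 <;> rw [e3]
        · simp
        · exact (h.z_central C).symm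
      have h2 : (v * z) ^ 3 = v ^ 3 := by
        rw [← h1, conj_pow, hc3, mul_inv_cancel_right]
      conv_rhs => rw [← h2, (show Commute v z from (h.z_central v).symm).mul_pow,
        show z ^ 3 = z by rw [pow_succ, sq, h.z_sq, one_mul]]
    exact h.z_ne (mul_eq_left.1 h3)
  · rintro a b _ _ ⟨u, hu, hu'⟩ ⟨v, hv, hv'⟩
    exact ⟨u * v, mul_mem hu hv, by rw [map_mul, Subgroup.coe_mul, hu', hv', map_mul]⟩
  · rintro a _ ⟨u, hu, hu'⟩
    exact ⟨u⁻¹, inv_mem hu, by rw [map_inv, Subgroup.coe_inv, hu', map_inv]⟩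

/-- Every element is a commutator. -/
theorem Cover.exists_commutator (h : Cover n π z) [Finite G] (g : G) :
    ∃ a b : G, a * b * a⁻¹ * b⁻¹ = g := by
  classical
  obtain ⟨x, y, hx, hxy, htype, a, b, c, d, hab, hcd, hac, had, hbc, hbd, xa, xb, xc, xd⟩ :=
    exists_pair_factor (by rw [Fintype.card_fin]; exact h.five) (π g : Perm (Fin n))
      (mem_alternatingGroup.1 (π g).2)
  set u : Perm (Fin n) := swap a b * swap c d with hu
  have husign : sign u = 1 := by rw [hu, map_mul, sign_swap hab, sign_swap hcd]; rfl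
  set v : Perm (Fin n) := swap a c * swap b d with hv
  have hvsign : sign v = 1 := by rw [hv, map_mul, sign_swap hac, sign_swap hbd]; rfl
  have huv : u * v = swap a d * swap b c := by
    rw [hu, hv]
    ext t
    by_cases h1 : t = a
    · subst h1; simp [swap_apply_of_ne_of_ne, hab, hac, had, hbc, hbd, hcd, hab.symm, hac.symm, had.symm, hbc.symm, hbd.symm, hcd.symm]
    by_cases h2 : t = b
    · subst h2; simp [swap_apply_of_ne_of_ne, hab, hac, had, hbc, hbd, hcd, hab.symm, hac.symm, had.symm, hbc.symm, hbd.symm, hcd.symm]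
    by_cases h3 : t = c
    · subst h3; simp [swap_apply_of_ne_of_ne, hab, hac, had, hbc, hbd, hcd, hab.symm, hac.symm, had.symm, hbc.symm, hbd.symm, hcd.symm]
    by_cases h4 : t = d
    · subst h4; simp [swap_apply_of_ne_of_ne, hab, hac, had, hbc, hbd, hcd, hab.symm, hac.symm, had.symm, hbc.symm, hbd.symm, hcd.symm]
    simp [swap_apply_of_ne_of_ne, h1, h2, h3, h4]
  obtain ⟨U, hU⟩ := h.surj ⟨u, mem_alternatingGroup.2 husign⟩
  obtain ⟨C, hC⟩ := h.surj ⟨v, mem_alternatingGroup.2 hvsign⟩
  have hU' : (π U : Perm (Fin n)) = u := congrArg Subtype.val hU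
  have hC' : (π C : Perm (Fin n)) = v := congrArg Subtype.val hC
  have eU : U * U = z := h.sq_two (by rw [hU']; exact cycleType_two_swaps hab hcd hac had hbc hbd)
  have eC : C * C = z := h.sq_two (by
    rw [hC']; exact cycleType_two_swaps hac hbd hab had hbc.symm hcd)
  have eUC : U * C * (U * C) = z := h.sq_two (by
    rw [map_mul, Subgroup.coe_mul, hU', hC', huv]
    exact cycleType_two_swaps had hbc hab hac hbd.symm hcd.symm)
  have hanti : U * C = C * U * z := by
    have e1 : U * C * (U * C) * (C * U) = z * (C * U) := by rw [eUC]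
    have e2 : U * C * (U * C) * (C * U) = U * C := by
      calc U * C * (U * C) * (C * U) = U * C * (U * (C * C) * U) := by group
        _ = U * C * (z * (U * U)) := by rw [eC, ← h.z_central U]; group
        _ = _ := by rw [eU, h.z_sq, mul_one]
    rw [← e2, e1, h.z_central]
  obtain ⟨R, hR⟩ := h.surj ⟨u * x, mem_alternatingGroup.2 (by rw [map_mul, husign, hx]; rfl)⟩
  have hR' : (π R : Perm (Fin n)) = u * x := congrArg Subtype.val hR
  have hCR : C * R = R * C := h.commute_fixing (s := {a, b, c, d}) (fun i hi => by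
      simp only [Finset.mem_insert, Finset.mem_singleton, not_or] at hi
      rw [hC', hv]
      simp [swap_apply_of_ne_of_ne, hi.1, hi.2.1, hi.2.2.1, hi.2.2.2]) (fun i hi => by
      simp only [Finset.mem_insert, Finset.mem_singleton] at hi
      rw [hR', hu]
      rcases hi with rfl | rfl | rfl | rfl <;>
        simp [swap_apply_of_ne_of_ne, xa, xb, xc, xd, hab, hac, had, hbc, hbd, hcd, hab.symm,
          hac.symm, had.symm, hbc.symm, hbd.symm, hcd.symm])
  set X := U * R with hX
  have hX' : (π X : Perm (Fin n)) = x := by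
    rw [hX, map_mul, Subgroup.coe_mul, hU', hR', ← mul_assoc]
    have huu : u * u = 1 := by
      have hd : Commute (swap a b) (swap c d) := Perm.Disjoint.commute fun t => by
        by_cases ht : t = a ∨ t = b
        · right; rcases ht with rfl | rfl
          · exact swap_apply_of_ne_of_ne hac had
          · exact swap_apply_of_ne_of_ne hbc hbd
        · left; push Not at ht; exact swap_apply_of_ne_of_ne ht.1 ht.2
      rw [hu, hd.symm.mul_mul_mul_comm, swap_mul_self, swap_mul_self, one_mul]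
    rw [huu, one_mul]
  have hXC : X * C = C * X * z := by
    rw [hX, mul_assoc, ← hCR, ← mul_assoc, hanti, mul_assoc _ z R, h.z_central R]
    group
  -- a conjugator inside the alternating group
  obtain ⟨k, hk⟩ := isConj_iff.1 (Perm.isConj_iff_cycleType_eq.2
    (show x⁻¹.cycleType = y.cycleType by rw [cycleType_inv, htype]))
  have hswap : swap a b * x = x * swap a b := by
    have := Equiv.swap_apply_apply x a b
    rw [xa, xb, Equiv.swap_comm b a] at this
    conv_lhs => rw [this]
    group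
  obtain ⟨k', hk's, hk'⟩ : ∃ k', sign k' = 1 ∧ k' * x⁻¹ * k'⁻¹ = y := by
    rcases Int.units_eq_one_or (sign k) with hs | hs
    · exact ⟨k, hs, hk⟩
    · refine ⟨k * swap a b, by rw [map_mul, hs, sign_swap hab]; rfl, ?_⟩
      rw [← hk]
      have : swap a b * x⁻¹ = x⁻¹ * swap a b := (Commute.inv_right hswap).eq
      rw [mul_assoc k, this]
      group
  obtain ⟨B, hB⟩ := h.surj ⟨k', mem_alternatingGroup.2 hk's⟩
  have hB' : (π B : Perm (Fin n)) = k' := congrArg Subtype.val hB
  have hπ : π (X * B * X⁻¹ * B⁻¹) = π g := Subtype.ext (by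
    simp only [map_mul, map_inv, Subgroup.coe_mul, Subgroup.coe_inv, hX', hB']
    rw [hxy, ← hk']
    group)
  rcases h.lift_eq hπ with e | e
  · exact ⟨X, B, e⟩
  · refine ⟨X, B * C, ?_⟩
    have h1 : C * X⁻¹ * C⁻¹ = X⁻¹ * z := by
      have hzi : z⁻¹ = z := inv_eq_of_mul_eq_one_right h.z_sq
      have : C * X * C⁻¹ = X * z := by
        have h2 : C * X = X * C * z := by rw [hXC, mul_assoc _ z z, h.z_sq, mul_one]
        rw [h2, mul_assoc X C z, ← h.z_central C, ← mul_assoc, mul_inv_cancel_right]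
      rw [show C * X⁻¹ * C⁻¹ = (C * X * C⁻¹)⁻¹ by group, this, mul_inv_rev, hzi, h.z_central]
    calc X * (B * C) * X⁻¹ * (B * C)⁻¹ = X * B * (C * X⁻¹ * C⁻¹) * B⁻¹ := by group
      _ = X * B * X⁻¹ * (z * B⁻¹) := by rw [h1]; group
      _ = X * B * X⁻¹ * B⁻¹ * z := by rw [h.z_central]; group
      _ = g := by rw [e, mul_assoc, h.z_sq, mul_one]

end Cfsg.Agent.H25.DoubleCover
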